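import Mathlib
import Cfsg.Prelude.Def_Balance
import Cfsg.Agent.Lib.FStar.PComponent
import Cfsg.Agent.Lib.FStar.PConstrained
import Cfsg.Agent.Lib.FStar.Signalizer
import Cfsg.Agent.Lib.Techniques.Balance2
import Cfsg.Agent.Lib.Fusion.SylowIn
import Cfsg.Agent.Lib.Hall.CoprimeLemmas

/-!
# The extended 2-layer
-/

set_option autoImplicit false

namespace Cfsg.Agent.Lib.FStar.ExtLayer

open Subgroup Cfsg
open Cfsg.Agent.Lib.Core Cfsg.Agent.Lib.FStar

variable {X : Type*} [Group X] [Finite X]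

/-- `O(Y)` as a subgroup of the ambient group. -/
abbrev cc (Y : Subgroup X) : Subgroup X := (oddCore ↥Y).map Y.subtype

theorem cc_le (Y : Subgroup X) : cc Y ≤ Y := map_subtype_le _

theorem cc_coprime (Y : Subgroup X) : (Nat.card (cc Y)).Coprime 2 := by
  have h1 : (Nat.card (oddCore ↥Y)).Coprime 2 := pPrimeCore_coprime 2 _
  rwa [cc, Subgroup.card_map_of_injective Y.subtype_injective]

theorem le_normalizer_cc (Y : Subgroup X) : Y ≤ normalizer (cc Y : Set X) := by
  intro y hy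
  refine Cfsg.Agent.Lib.Hall.mem_normalizer_of_conj_le ?_
  rintro _ ⟨x, hx, rfl⟩
  exact ⟨⟨y, hy⟩ * x * (⟨y, hy⟩ : Y)⁻¹, (pPrimeCore_normal 2 Y).conj_mem x hx _, by simp⟩

theorem le_cc {N Y : Subgroup X} (hNY : N ≤ Y) (hn : Y ≤ normalizer (N : Set X))
    (hc : (Nat.card N).Coprime 2) : N ≤ cc Y := by
  have h1 : (N.subgroupOf Y).Normal := by
    rw [Subgroup.normal_subgroupOf_iff_le_normalizer hNY]
    exact hn
  have h2 : (Nat.card (N.subgroupOf Y)).Coprime 2 := by
    rwa [Nat.card_congr (subgroupOfEquivOfLe hNY).toEquiv]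
  have h3 := le_pPrimeCore h1 h2
  have h4 := Subgroup.map_mono (f := Y.subtype) h3
  rwa [Subgroup.map_subgroupOf_eq_of_le hNY] at h4

theorem conj_mem_cc {Y : Subgroup X} (g : X) {x : X} (hx : x ∈ cc Y) :
    g * x * g⁻¹ ∈ cc (Y.map (MulAut.conj g).toMonoidHom) := by
  have h1 : (cc Y).map (MulAut.conj g).toMonoidHom ≤ cc (Y.map (MulAut.conj g).toMonoidHom) := by
    apply le_cc (Subgroup.map_mono (cc_le Y))
    · rintro _ ⟨y, hy, rfl⟩
      refine Cfsg.Agent.Lib.Hall.mem_normalizer_of_conj_le ?_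
      rintro _ ⟨z, hz, rfl⟩
      refine ⟨y * z * y⁻¹, (mem_normalizer_iff.mp (le_normalizer_cc Y hy) z).mp hz, ?_⟩
      simp only [MulEquiv.coe_toMonoidHom, MulAut.conj_apply]
      group
    · rw [Subgroup.card_map_of_injective (MulAut.conj g).injective]
      exact cc_coprime Y
  exact h1 ⟨x, hx, rfl⟩

theorem map_conj_centralizer (g : X) (S : Subgroup X) :
    (centralizer (S : Set X)).map (MulAut.conj g).toMonoidHom =
      centralizer ((S.map (MulAut.conj g).toMonoidHom : Subgroup X) : Set X) := by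
  ext x
  constructor
  · rintro ⟨c, hc, rfl⟩
    rw [mem_centralizer_iff]
    rintro _ ⟨s, hs, rfl⟩
    have := mem_centralizer_iff.mp hc s hs
    simp only [MulEquiv.coe_toMonoidHom, MulAut.conj_apply]
    calc g * s * g⁻¹ * (g * c * g⁻¹) = g * (s * c) * g⁻¹ := by group
      _ = g * (c * s) * g⁻¹ := by rw [this]
      _ = _ := by group
  · intro hx
    refine ⟨g⁻¹ * x * g, ?_, by simp [MulAut.conj_apply, mul_assoc]⟩
    rw [SetLike.mem_coe, mem_centralizer_iff]
    intro s hs
    have := mem_centralizer_iff.mp hx (g * s * g⁻¹) ⟨s, hs, rfl⟩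
    calc s * (g⁻¹ * x * g) = g⁻¹ * (g * s * g⁻¹ * x) * g := by group
      _ = g⁻¹ * (x * (g * s * g⁻¹)) * g := by rw [this]
      _ = _ := by group

/-- The normal subgroup `L_{2'}(X) O_{2',2}(X)`. -/
abbrev ML (X : Type*) [Group X] : Subgroup X := pLayer 2 X ⊔ pPrimePCore 2 X

instance : (pLayer 2 X).Normal := Cfsg.Agent.Lib.Techniques.pLayer_normal'

instance : (ML X).Normal := inferInstance

/-- The Sylow subgroup as a subgroup of `X`. -/
abbrev hat (T : Sylow 2 ↥(ML X)) : Subgroup X := (T : Subgroup ↥(ML X)).map (ML X).subtype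

theorem exists_conj_sylow (g : X) (T : Sylow 2 ↥(ML X)) :
    ∃ T' : Sylow 2 ↥(ML X), hat T' = (hat T).map (MulAut.conj g).toMonoidHom := by
  refine ⟨(MulAut.conjNormal g : MulAut ↥(ML X)) • T, ?_⟩
  have h1 : (((MulAut.conjNormal g : MulAut ↥(ML X)) • T : Sylow 2 ↥(ML X)) : Subgroup ↥(ML X)) =
      (T : Subgroup ↥(ML X)).map (MulAut.conjNormal g : MulAut ↥(ML X)).toMonoidHom := rfl
  rw [hat, h1, hat, Subgroup.map_map, Subgroup.map_map]
  congr 1

/-- Everything in `cc C(T)`. -/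
theorem extendedTwoLayer_eq :
    extendedTwoLayer X = pLayer 2 X ⊔ oddCore X ⊔ ⨆ T : Sylow 2 ↥(ML X), cc (centralizer (hat T : Set X)) :=
  rfl

instance extendedTwoLayer_normal : (extendedTwoLayer X).Normal := by
  rw [extendedTwoLayer_eq]
  haveI h0 : (⨆ T : Sylow 2 ↥(ML X), cc (centralizer (hat T : Set X))).Normal := by
    refine ⟨fun x hx g => ?_⟩
    have h1 : (⨆ T : Sylow 2 ↥(ML X), cc (centralizer (hat T : Set X))) ≤
        (⨆ T : Sylow 2 ↥(ML X), cc (centralizer (hat T : Set X))).comap (MulAut.conj g).toMonoidHom := by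
      refine iSup_le fun T => ?_
      intro y hy
      rw [Subgroup.mem_comap]
      have h2 := conj_mem_cc g hy
      rw [map_conj_centralizer] at h2
      obtain ⟨T', hT'⟩ := exists_conj_sylow g T
      rw [← hT'] at h2
      exact Subgroup.mem_iSup_of_mem T' h2
    exact h1 hx
  infer_instance

theorem map_conj_self {H : Subgroup X} {t : X} (ht : t ∈ H) : H.map (MulAut.conj t).toMonoidHom = H := by
  ext x
  constructor
  · rintro ⟨y, hy, rfl⟩
    exact H.mul_mem (H.mul_mem ht hy) (H.inv_mem ht)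
  · intro hx
    refine ⟨t⁻¹ * x * t, H.mul_mem (H.mul_mem (H.inv_mem ht) hx) ht, ?_⟩
    simp only [MulEquiv.coe_toMonoidHom, MulAut.conj_apply]
    group

theorem map_conj_mul (a b : X) (H : Subgroup X) : H.map (MulAut.conj (a * b)).toMonoidHom =
    (H.map (MulAut.conj b).toMonoidHom).map (MulAut.conj a).toMonoidHom := by
  rw [Subgroup.map_map]
  congr 1
  ext x
  simp [MulAut.conj_apply, mul_assoc]

theorem map_conj_one (H : Subgroup X) : H.map (MulAut.conj (1 : X)).toMonoidHom = H :=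
  map_conj_self (one_mem H)

theorem hat_smul (m : ↥(ML X)) (T : Sylow 2 ↥(ML X)) :
    hat (m • T) = (hat T).map (MulAut.conj (m : X)).toMonoidHom := by
  have h1 : ((m • T : Sylow 2 ↥(ML X)) : Subgroup ↥(ML X)) =
      (T : Subgroup ↥(ML X)).map (MulAut.conj m).toMonoidHom := rfl
  rw [hat, h1, hat, Subgroup.map_map, Subgroup.map_map]
  congr 1

/-- The normal subgroup `L_{2'}(X) O(X)`. -/
abbrev NL (X : Type*) [Group X] : Subgroup X := pLayer 2 X ⊔ oddCore X

instance : (NL X).Normal := inferInstance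

/-- `ML X = NL X · T`. -/
theorem exists_decomp (T : Sylow 2 ↥(ML X)) (m : ↥(ML X)) :
    ∃ τ ∈ (T : Subgroup ↥(ML X)), ((m * τ⁻¹ : ↥(ML X)) : X) ∈ NL X := by
  set f : ↥(ML X) →* X ⧸ NL X := (QuotientGroup.mk' (NL X)).comp (ML X).subtype with hf
  have hp : IsPGroup 2 f.range := by
    rintro ⟨_, m₁, rfl⟩
    obtain ⟨ℓ, hℓ, s, hs, hm⟩ := (Subgroup.mem_sup_of_normal_right (t := pPrimePCore 2 X)).mp m₁.2
    have h1 : QuotientGroup.mk' (oddCore X) s ∈ pCore 2 (X ⧸ oddCore X) := hs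
    obtain ⟨k, hk⟩ := pCore_isPGroup 2 (X ⧸ oddCore X) ⟨_, h1⟩
    refine ⟨k, Subtype.ext ?_⟩
    have h2 : (QuotientGroup.mk' (oddCore X) s) ^ 2 ^ k = 1 := congrArg Subtype.val hk
    have h3 : s ^ 2 ^ k ∈ oddCore X := by
      rw [← map_pow] at h2
      exact (QuotientGroup.eq_one_iff _).mp h2
    have h4 : f m₁ = QuotientGroup.mk' (NL X) s := by
      have h5 : QuotientGroup.mk' (NL X) ℓ = 1 :=
        (QuotientGroup.eq_one_iff _).mpr (Subgroup.mem_sup_left hℓ)
      rw [hf, MonoidHom.comp_apply, Subgroup.subtype_apply, ← hm, map_mul, h5, one_mul]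
    show (f m₁) ^ 2 ^ k = 1
    rw [h4, ← map_pow]
    exact (QuotientGroup.eq_one_iff _).mpr (Subgroup.mem_sup_right h3)
  have htop := Cfsg.Agent.Lib.FStar.map_sylow_eq_top_of_surjective f.rangeRestrict_surjective hp T
  have hm : f.rangeRestrict m ∈ (T : Subgroup ↥(ML X)).map f.rangeRestrict := by
    rw [htop]
    trivial
  obtain ⟨τ, hτ, hτm⟩ := hm
  refine ⟨τ, hτ, ?_⟩
  have h1 : f τ = f m := congrArg Subtype.val hτm
  have h2 : f (m * τ⁻¹) = 1 := by
    rw [map_mul, map_inv, h1, mul_inv_cancel]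
  exact (QuotientGroup.eq_one_iff _).mp h2

/-- **S1341** -/
theorem extendedTwoLayer_eq_of (T : Sylow 2 ↥(ML X)) :
    extendedTwoLayer X = pLayer 2 X ⊔ oddCore X ⊔ cc (centralizer (hat T : Set X)) := by
  apply le_antisymm
  · rw [extendedTwoLayer_eq]
    refine sup_le le_sup_left (iSup_le fun T' => ?_)
    obtain ⟨m, rfl⟩ := MulAction.exists_smul_eq ↥(ML X) T T'
    obtain ⟨τ, hτ, hn⟩ := exists_decomp T m
    obtain ⟨n, hnd⟩ : ∃ n : X, n = ((m * τ⁻¹ : ↥(ML X)) : X) := ⟨_, rfl⟩
    rw [← hnd] at hn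
    have hm : (m : X) = n * (τ : X) := by
      rw [hnd]
      simp
    have hτT : (τ : X) ∈ hat T := ⟨τ, hτ, rfl⟩
    have hT' : hat (m • T) = (hat T).map (MulAut.conj n).toMonoidHom := by
      rw [hat_smul, hm, map_conj_mul, map_conj_self hτT]
    rw [hT']
    intro x hx
    -- conjugate back
    have h1 := conj_mem_cc n⁻¹ hx
    rw [map_conj_centralizer, ← map_conj_mul, inv_mul_cancel, map_conj_one] at h1
    rw [inv_inv] at h1
    obtain ⟨x', hx'⟩ : ∃ x', x' = n⁻¹ * x * n := ⟨_, rfl⟩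
    rw [← hx'] at h1
    have h2 : x = (n * (x' * n⁻¹ * x'⁻¹)) * x' := by
      rw [hx']
      group
    rw [h2]
    refine Subgroup.mul_mem _ (Subgroup.mem_sup_left ?_) (Subgroup.mem_sup_right h1)
    refine Subgroup.mul_mem _ hn ?_
    exact (inferInstance : (NL X).Normal).conj_mem _ (Subgroup.inv_mem _ hn) x'
  · rw [extendedTwoLayer_eq]
    exact sup_le le_sup_left (le_trans (le_iSup (fun T : Sylow 2 ↥(ML X) => cc (centralizer (hat T : Set X))) T) le_sup_right)

/-- **S1343** -/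
theorem exists_odd_sylow_normalized :
    ∃ F : Subgroup X, Odd (Nat.card F) ∧ (∃ S : Sylow 2 X, (S : Subgroup X) ≤ normalizer (F : Set X)) ∧
      extendedTwoLayer X = pLayer 2 X ⊔ F := by
  obtain ⟨T⟩ : Nonempty (Sylow 2 ↥(ML X)) := inferInstance
  have hTp : IsPGroup 2 (hat T) := T.isPGroup'.map _
  obtain ⟨S, hS⟩ := hTp.exists_le_sylow
  have hST : (S : Subgroup X) ⊓ ML X = hat T := by
    apply le_antisymm _ (le_inf hS (map_subtype_le _))
    -- maximality of `T`
    have h1 : IsPGroup 2 (((S : Subgroup X) ⊓ ML X).subgroupOf (ML X)) :=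
      (S.isPGroup'.to_le inf_le_left).comap_of_injective _ (ML X).subtype_injective
    have h2 : (T : Subgroup ↥(ML X)) ≤ ((S : Subgroup X) ⊓ ML X).subgroupOf (ML X) := by
      intro t ht
      rw [mem_subgroupOf]
      exact ⟨hS ⟨t, ht, rfl⟩, t.2⟩
    have h3 := T.is_maximal' h1 h2
    intro x hx
    exact ⟨⟨x, hx.2⟩, by rw [← h3]; exact mem_subgroupOf.mpr hx, rfl⟩
  have hSN : (S : Subgroup X) ≤ normalizer ((hat T : Subgroup X) : Set X) := by
    rw [← hST]
    intro s hs
    refine Cfsg.Agent.Lib.Hall.mem_normalizer_of_conj_le ?_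
    rintro x ⟨hxS, hxM⟩
    exact ⟨(S : Subgroup X).mul_mem ((S : Subgroup X).mul_mem hs hxS) ((S : Subgroup X).inv_mem hs),
      (inferInstance : (ML X).Normal).conj_mem x hxM s⟩
  obtain ⟨C, hCd⟩ : ∃ C, C = cc (centralizer (hat T : Set X)) := ⟨_, rfl⟩
  have hSC : (S : Subgroup X) ≤ normalizer (C : Set X) := by
    intro s hs
    refine Cfsg.Agent.Lib.Hall.mem_normalizer_of_conj_le ?_
    intro x hx
    rw [hCd] at hx ⊢
    have h1 := conj_mem_cc s hx
    rw [map_conj_centralizer] at h1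
    have h2 : (hat T).map (MulAut.conj s).toMonoidHom = hat T := by
      apply le_antisymm
      · rintro _ ⟨y, hy, rfl⟩
        exact (mem_normalizer_iff.mp (hSN hs) y).mp hy
      · intro y hy
        refine ⟨s⁻¹ * y * s, ?_, ?_⟩
        · have := (mem_normalizer_iff.mp (Subgroup.inv_mem _ (hSN hs)) y).mp hy
          rwa [inv_inv] at this
        · simp only [MulEquiv.coe_toMonoidHom, MulAut.conj_apply]
          group
    rwa [h2] at h1
  refine ⟨oddCore X ⊔ C, ?_, ⟨S, ?_⟩, ?_⟩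
  · have hn : ∀ y ∈ C, ∀ x ∈ oddCore X, y * x * y⁻¹ ∈ oddCore X :=
      fun y _ x hx => (inferInstance : (oddCore X).Normal).conj_mem x hx y
    have h1 := Cfsg.Agent.Lib.FStar.card_sup_dvd_of_normalized hn
    have h2 : (Nat.card (oddCore X)).Coprime 2 := pPrimeCore_coprime 2 X
    have h3 : (Nat.card C).Coprime 2 := hCd ▸ cc_coprime _
    have h4 : (Nat.card (oddCore X : Subgroup X) * Nat.card C).Coprime 2 := Nat.Coprime.mul_left h2 h3
    have h5 := Nat.Coprime.coprime_dvd_left h1 h4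
    exact Nat.odd_iff.mpr (by
      have := Nat.coprime_two_right.mp h5
      exact Nat.odd_iff.mp this)
  · intro s hs
    refine Cfsg.Agent.Lib.Hall.mem_normalizer_of_conj_le ?_
    intro x hx
    have h1 : oddCore X ⊔ C ≤ (oddCore X ⊔ C).comap (MulAut.conj s).toMonoidHom := by
      refine sup_le ?_ ?_
      · intro y hy
        exact Subgroup.mem_sup_left ((inferInstance : (oddCore X).Normal).conj_mem y hy s)
      · intro y hy
        exact Subgroup.mem_sup_right ((mem_normalizer_iff.mp (hSC hs) y).mp hy)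
    exact h1 hx
  · rw [extendedTwoLayer_eq_of T, ← hCd, sup_assoc]

section pcomp
variable {K : Subgroup X}

/-- An element whose image normalizes the image of a `2`-component normalizes the component. -/
theorem mem_normalizer_of_map (hK : IsPComponent 2 K) {g : X}
    (hg : QuotientGroup.mk' (oddCore X) g ∈
      normalizer ((K.map (QuotientGroup.mk' (oddCore X)) : Subgroup (X ⧸ oddCore X)) : Set (X ⧸ oddCore X))) :
    g ∈ normalizer (K : Set X) := by
  rw [pComponent_eq_pGenOf hK]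
  apply normalizer_le_normalizer_pGenOf 2
  rw [mem_normalizer_iff]
  intro x
  rw [mem_comap, mem_comap, map_mul, map_mul, map_inv]
  exact mem_normalizer_iff.mp hg _

/-- **S1344**, the key step. -/
theorem cc_le_normalizer (hK : IsPComponent 2 K) (T : Sylow 2 ↥(ML X)) :
    cc (centralizer (hat T : Set X)) ≤ normalizer (K : Set X) := by
  intro f hf
  apply mem_normalizer_of_map hK
  obtain ⟨π, hπ⟩ : ∃ π, π = QuotientGroup.mk' (oddCore X) := ⟨_, rfl⟩
  rw [← hπ]
  have hfC : f ∈ centralizer (hat T : Set X) := cc_le _ hf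
  by_cases hne : (K.map π).map (MulAut.conj (π f)).toMonoidHom = K.map π
  · refine Cfsg.Agent.Lib.Hall.mem_normalizer_of_conj_le ?_
    intro x hx
    rw [← hne]
    exact ⟨x, hx, rfl⟩
  exfalso
  have hcomp : IsComponent (K.map π) := hπ ▸ hK.2.1
  have hcomp' : IsComponent ((K.map π).map (MulAut.conj (π f)).toMonoidHom) :=
    component_map_conj _ hcomp
  have hc := component_commute hcomp hcomp' (Ne.symm hne)
  -- Sylow subgroup of `K`
  have hKL : K ≤ pLayer 2 X := pComponent_le_pLayer hK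
  have hLM : pLayer 2 X ≤ ML X := le_sup_left
  have hST : Cfsg.Agent.Lib.Fusion.IsSylowIn 2 (hat T) (ML X) := by
    refine ⟨T, ?_⟩
    ext x
    rw [mem_subgroupOf]
    constructor
    · intro hx
      exact ⟨x, hx, rfl⟩
    · rintro ⟨y, hy, hyx⟩
      have : y = x := Subtype.ext hyx
      rwa [← this]
  have hR₁ := hST.inf_normal (map_subtype_le _) hLM (Subgroup.normal_subgroupOf)
  have hR₂ := hR₁.inf_normal inf_le_right hKL (pComponent_normal_pLayer hK)
  obtain ⟨R₀, hR₀⟩ := hR₂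
  have hO : pPrimeCore 2 (X ⧸ oddCore X) = ⊥ := pPrimeCore_quotient_eq_bot
  have hd := dvd_card_quotient_center_of_component 2 hO hK.2.1
  set φ : ↥K →* ↥(K.map (QuotientGroup.mk' (oddCore X))) ⧸ center ↥(K.map (QuotientGroup.mk' (oddCore X))) :=
    (QuotientGroup.mk' _).comp (pcHom 2 K) with hφ
  have hφs : Function.Surjective φ :=
    (QuotientGroup.mk'_surjective _).comp (pcHom_surjective 2 K)
  have hne2 := (R₀.mapSurjective hφs).ne_bot_of_dvd_card hd
  apply hne2
  rw [Sylow.coe_mapSurjective, eq_bot_iff]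
  rintro _ ⟨r, hr, rfl⟩
  rw [Subgroup.mem_bot]
  subst hπ
  have hrT : (r : X) ∈ hat T := by
    have hr2 : r ∈ (R₀ : Subgroup ↥K) := hr
    rw [hR₀, mem_subgroupOf] at hr2
    exact hr2.1.1
  have hcomm : f * (r : X) * f⁻¹ = r := by
    have := mem_centralizer_iff.mp hfC r hrT
    rw [← this, mul_inv_cancel_right]
  have hr' : QuotientGroup.mk' (oddCore X) (r : X) ∈
      (K.map (QuotientGroup.mk' (oddCore X))).map
        (MulAut.conj (QuotientGroup.mk' (oddCore X) f)).toMonoidHom := by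
    refine ⟨QuotientGroup.mk' (oddCore X) (r : X), ⟨r, r.2, rfl⟩, ?_⟩
    simp only [MulEquiv.coe_toMonoidHom, MulAut.conj_apply]
    rw [← map_inv, ← map_mul, ← map_mul, hcomm]
  rw [hφ, MonoidHom.comp_apply]
  refine (QuotientGroup.eq_one_iff _).mpr ?_
  rw [Subgroup.mem_center_iff]
  intro y
  apply Subtype.ext
  exact mul_comm_of_commutator_eq_bot hc y.2 hr'

/-- **S1344**. -/
theorem extendedTwoLayer_le_normalizer (hK : IsPComponent 2 K) :
    extendedTwoLayer X ≤ normalizer (K : Set X) := by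
  rw [extendedTwoLayer_eq]
  refine sup_le (sup_le ?_ ?_) (iSup_le fun T => cc_le_normalizer hK T)
  · exact sSup_le fun J hJ => pComponent_le_normalizer hK hJ
  · intro g hg
    apply mem_normalizer_of_map hK
    have : QuotientGroup.mk' (oddCore X) g = 1 := (QuotientGroup.eq_one_iff _).mpr hg
    rw [this]
    exact one_mem _

theorem le_extendedTwoLayer (hK : IsPComponent 2 K) : K ≤ extendedTwoLayer X :=
  (pComponent_le_pLayer hK).trans (le_sup_left.trans le_sup_left)

end pcomp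

end Cfsg.Agent.Lib.FStar.ExtLayer
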