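import Mathlib
import Cfsg.Agent.Lib.FStar.Transitivity

/-!
# Factorizations in coprime actions (S1287)
-/

set_option autoImplicit false
set_option linter.unusedSectionVars false
set_option linter.unusedVariables false

open Subgroup Cfsg Cfsg.Agent.Lib.Core Cfsg.Agent.Lib.FF
open scoped commutatorElement Pointwise

namespace Cfsg.Agent.Lib.FStar

section product

variable {H : Type*} [Group H] [Finite H]

/-- The product formula `|XY| |X ∩ Y| = |X| |Y|`. -/
theorem card_mul_set_mul_card_inf (X Y : Subgroup H) :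
    Nat.card ((X : Set H) * (Y : Set H) : Set H) * Nat.card (X ⊓ Y : Subgroup H) =
      Nat.card X * Nat.card Y := by
  classical
  set S : Set H := (X : Set H) * (Y : Set H) with hS
  let f : X × Y → S := fun z => ⟨(z.1 : H) * z.2, Set.mul_mem_mul z.1.2 z.2.2⟩
  have hrep : ∀ g : S, ∃ x : X, ∃ y : Y, (x : H) * y = g := by
    rintro ⟨g, hg⟩
    obtain ⟨x, hx, y, hy, rfl⟩ := Set.mem_mul.mp hg
    exact ⟨⟨x, hx⟩, ⟨y, hy⟩, rfl⟩
  choose rx ry hrep' using hrep
  let e : X × Y ≃ S × (X ⊓ Y : Subgroup H) :=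
    { toFun := fun z => (f z, ⟨(rx (f z) : H)⁻¹ * z.1, by
        refine Subgroup.mem_inf.mpr ⟨mul_mem (inv_mem (rx _).2) z.1.2, ?_⟩
        have h1 : (rx (f z) : H) * ry (f z) = (z.1 : H) * z.2 := hrep' (f z)
        have h2 : (rx (f z) : H)⁻¹ * z.1 = ry (f z) * (z.2 : H)⁻¹ := by
          calc (rx (f z) : H)⁻¹ * z.1 = (rx (f z) : H)⁻¹ * ((z.1 : H) * z.2) * (z.2 : H)⁻¹ := by group
            _ = (rx (f z) : H)⁻¹ * ((rx (f z) : H) * ry (f z)) * (z.2 : H)⁻¹ := by rw [h1]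
            _ = _ := by group
        rw [h2]
        exact mul_mem (ry _).2 (inv_mem z.2.2)⟩)
      invFun := fun w => (⟨(rx w.1 : H) * w.2, mul_mem (rx _).2 (Subgroup.mem_inf.mp w.2.2).1⟩,
        ⟨(w.2 : H)⁻¹ * ry w.1, mul_mem (inv_mem (Subgroup.mem_inf.mp w.2.2).2) (ry _).2⟩)
      left_inv := by
        rintro ⟨x, y⟩
        have h1 : (rx (f (x, y)) : H) * ry (f (x, y)) = (x : H) * y := hrep' (f (x, y))
        apply Prod.ext
        · apply Subtype.ext
          change (rx (f (x, y)) : H) * ((rx (f (x, y)) : H)⁻¹ * x) = x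
          group
        · apply Subtype.ext
          change ((rx (f (x, y)) : H)⁻¹ * x)⁻¹ * ry (f (x, y)) = y
          calc ((rx (f (x, y)) : H)⁻¹ * x)⁻¹ * ry (f (x, y))
              = (x : H)⁻¹ * ((rx (f (x, y)) : H) * ry (f (x, y))) := by group
            _ = (x : H)⁻¹ * ((x : H) * y) := by rw [h1]
            _ = y := by group
      right_inv := by
        rintro ⟨g, d⟩
        have h1 : (rx g : H) * ry g = g := hrep' g
        have hfg : f (⟨(rx g : H) * d, mul_mem (rx _).2 (Subgroup.mem_inf.mp d.2).1⟩,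
            ⟨(d : H)⁻¹ * ry g, mul_mem (inv_mem (Subgroup.mem_inf.mp d.2).2) (ry _).2⟩) = g := by
          apply Subtype.ext
          change ((rx g : H) * d) * ((d : H)⁻¹ * ry g) = g
          calc ((rx g : H) * d) * ((d : H)⁻¹ * ry g) = (rx g : H) * ry g := by group
            _ = g := h1
        apply Prod.ext
        · exact hfg
        · apply Subtype.ext
          change (rx (f _) : H)⁻¹ * ((rx g : H) * d) = d
          rw [hfg]
          group }
  have h := Nat.card_congr e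
  rw [Nat.card_prod, Nat.card_prod] at h
  exact h.symm

end product

section main

variable {H : Type*} [Group H] [Finite H] {p : ℕ} [hp : Fact p.Prime]

theorem normalizer_of_invariant {A S : Subgroup H} (h : ∀ a ∈ A, ∀ x ∈ S, a * x * a⁻¹ ∈ S) :
    A ≤ normalizer (S : Set H) := by
  intro a ha
  rw [mem_normalizer_iff]
  intro u
  refine ⟨h a ha u, fun hu => ?_⟩
  have := h a⁻¹ (inv_mem ha) _ hu
  simpa [mul_assoc] using this

theorem zpowers_isPGroup {a : H} (ha : a ^ p = 1) : IsPGroup p (zpowers a) := by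
  rintro ⟨g, hg⟩
  refine ⟨1, Subtype.ext ?_⟩
  obtain ⟨m, rfl⟩ := mem_zpowers_iff.mp hg
  change (a ^ m) ^ p ^ 1 = 1
  rw [pow_one, ← zpow_natCast, ← zpow_mul, mul_comm, zpow_mul, zpow_natCast, ha, one_zpow]

theorem card_coprime_of_pgroup {A U : Subgroup H} (hA : IsPGroup p A) (hU : ¬ p ∣ Nat.card U) :
    (Nat.card A).Coprime (Nat.card U) := by
  obtain ⟨k, hk⟩ := IsPGroup.iff_card.mp hA
  rw [hk]
  exact Nat.Coprime.pow_left k ((Nat.Prime.coprime_iff_not_dvd hp.out).mpr hU)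

theorem isSylowIn_factorization {q : ℕ} {S L : Subgroup H} (hS : IsSylowIn q S L) :
    (Nat.card L).factorization q = (Nat.card S).factorization q := by
  have h1 : Nat.card L = Nat.card S * S.relIndex L := by
    have h2 := (S.subgroupOf L).card_mul_index
    rw [← h2]
    congr 1
    exact Nat.card_congr (Subgroup.subgroupOfEquivOfLe hS.le).toEquiv
  have hrel : S.relIndex L ≠ 0 := Subgroup.index_ne_zero_of_finite
  rw [h1, Nat.factorization_mul Nat.card_pos.ne' hrel]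
  simp [Nat.factorization_eq_zero_of_not_dvd hS.not_dvd]

/-- For an `a`-invariant Sylow `q`-subgroup `S` of the `p'`-group `K` (`a^p = 1`), `C_S(a)` is Sylow in
`C_K(a)`. -/
theorem sylow_inf_centralizer {K S : Subgroup H} {a : H} {q : ℕ} [Fact q.Prime]
    (hS : IsSylowIn q S K) (ha : a ^ p = 1) (hKp : ¬ p ∣ Nat.card K)
    (hKa : a ∈ normalizer (K : Set H)) (hSa : a ∈ normalizer (S : Set H)) :
    IsSylowIn q (S ⊓ centralizer ({a} : Set H)) (K ⊓ centralizer ({a} : Set H)) := by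
  have hA₁p := zpowers_isPGroup ha
  have hsol := Cfsg.Agent.Lib.FStar.zpowers_isSolvable a
  have hinvK : ∀ b ∈ zpowers a, ∀ x ∈ K, b * x * b⁻¹ ∈ K := fun b hb x hx =>
    (mem_normalizer_iff.mp ((zpowers_le.mpr hKa) hb) x).mp hx
  have hinvS : ∀ b ∈ zpowers a, ∀ x ∈ S, b * x * b⁻¹ ∈ S := fun b hb x hx =>
    (mem_normalizer_iff.mp ((zpowers_le.mpr hSa) hb) x).mp hx
  obtain ⟨R, -, hR⟩ := exists_isSylowIn_of_le (p := q) (Q := ⊥)
    (L := K ⊓ centralizer ({a} : Set H)) IsPGroup.of_bot bot_le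
  have hRle : R ≤ K := hR.le.trans inf_le_left
  have hRa : ∀ x ∈ R, x * a = a * x := fun x hx =>
    mem_centralizer_singleton_iff.mp (Subgroup.mem_inf.mp (hR.le hx)).2
  have hinvR : ∀ b ∈ zpowers a, ∀ x ∈ R, b * x * b⁻¹ ∈ R := by
    intro b hb x hx
    obtain ⟨m, rfl⟩ := mem_zpowers_iff.mp hb
    have hc : Commute (a ^ m) x := ((show Commute x a from hRa x hx).symm.zpow_left m)
    rw [hc.eq]
    simpa using hx
  obtain ⟨S', hS', hS'inv, hRS'⟩ := exists_invariant_sylow_ge (A := zpowers a) (Y := K) (Q₀ := R)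
    hinvK (fun X hX => card_coprime_of_pgroup hA₁p
      (fun hd => hKp (hd.trans (Subgroup.card_dvd_of_le hX)))) hsol hR.isPGroup hRle hinvR
  obtain ⟨c, hc, hce⟩ := exists_conj_invariant_sylow hinvK
    (card_coprime_of_pgroup hA₁p hKp) hsol hS' hS hS'inv hinvS
  obtain ⟨hc1, hc2⟩ := Subgroup.mem_inf.mp hc
  have hca : c * a = a * c := by
    exact ((mem_centralizer_iff.mp hc2) a (mem_zpowers a)).symm
  have hcC : c ∈ K ⊓ centralizer ({a} : Set H) :=
    Subgroup.mem_inf.mpr ⟨hc1, mem_centralizer_singleton_iff.mpr hca⟩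
  have h1 := hR.conj c
  rw [conj_eq_of_mem hcC] at h1
  have h2 : R.map (MulAut.conj c).toMonoidHom ≤ S ⊓ centralizer ({a} : Set H) := by
    refine le_inf ?_ ?_
    · rw [← hce]
      exact Subgroup.map_mono hRS'
    · exact h1.le.trans inf_le_right
  have hT : IsPGroup q (S ⊓ centralizer ({a} : Set H) : Subgroup H) := hS.isPGroup.to_le inf_le_left
  have h3 := h1.eq_of_le hT (inf_le_inf_right _ hS.le) h2
  rwa [← h3]

/-- `q`-group version of the factorization. -/
theorem pgroup_factor {A : Subgroup H} (hA : IsElementaryAbelian p A) (hA2 : p ^ 2 ≤ Nat.card A)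
    {q : ℕ} [Fact q.Prime] :
    ∀ (n : ℕ) (Q X Y : Subgroup H), Nat.card Q - Nat.card X = n → IsPGroup q Q →
      (Nat.card Q).Coprime p → X ≤ Q → Y ≤ Q →
      (∀ a ∈ A, ∀ x ∈ Q, a * x * a⁻¹ ∈ Q) → (∀ a ∈ A, ∀ x ∈ X, a * x * a⁻¹ ∈ X) →
      (∀ a ∈ A, ∀ x ∈ Y, a * x * a⁻¹ ∈ Y) →
      (∀ a ∈ A, a ≠ 1 → ∀ u ∈ Q ⊓ centralizer ({a} : Set H),
        ∃ x ∈ X ⊓ centralizer ({a} : Set H), ∃ y ∈ Y ⊓ centralizer ({a} : Set H), u = x * y) →
      ∀ u ∈ Q, ∃ x ∈ X, ∃ y ∈ Y, u = x * y := by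
  intro n
  induction n using Nat.strong_induction_on with
  | _ n ih =>
    intro Q X Y hn hQ hQc hXQ hYQ hAQ hAX hAY hfac u hu
    by_cases hXeq : X = Q
    · exact ⟨u, hXeq ▸ hu, 1, one_mem _, by simp⟩
    have hlt : X < Q := lt_of_le_of_ne hXQ hXeq
    obtain ⟨z, hzQ, hzX, hzN⟩ := Cfsg.Agent.Lib.Amalgam.exists_mem_normalizer_of_lt (p := q) hQ hlt
    set N := Q ⊓ normalizer (X : Set H) with hN
    have hXN : X < N := by
      refine lt_of_le_of_ne (le_inf hXQ le_normalizer) ?_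
      intro h
      exact hzX (h ▸ Subgroup.mem_inf.mpr ⟨hzQ, hzN⟩)
    have hAnorm := normalizer_of_invariant hAX
    have hANinv : ∀ a ∈ A, ∀ x ∈ N, a * x * a⁻¹ ∈ N := fun a ha x hx =>
      Subgroup.mem_inf.mpr ⟨hAQ a ha x (Subgroup.mem_inf.mp hx).1,
        mul_mem (mul_mem (hAnorm ha) (Subgroup.mem_inf.mp hx).2) (inv_mem (hAnorm ha))⟩
    obtain ⟨B, hBA, hBi, n₀, hn₀, hn₀X⟩ := exists_fixed_outside (p := p) hA (hQ.to_le inf_le_left)
      (Nat.Coprime.coprime_dvd_left (Subgroup.card_dvd_of_le inf_le_left) hQc) hXN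
      (fun n hn y hy => (mem_normalizer_iff.mp (Subgroup.mem_inf.mp hn).2 y).mp hy) hANinv hAX
    -- a non-identity element of `B`
    have hB1 : ∃ a ∈ B, a ≠ 1 := by
      by_contra hcon
      push Not at hcon
      have hB : B = ⊥ := eq_bot_iff.mpr fun x hx => hcon x hx
      rw [hB, Subgroup.relIndex_bot_left] at hBi
      have : p < p ^ 2 := by
        rw [pow_two]
        exact lt_mul_of_one_lt_left hp.out.pos hp.out.one_lt
      omega
    obtain ⟨a, haB, ha1⟩ := hB1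
    obtain ⟨hn₁, hn₂⟩ := Subgroup.mem_inf.mp hn₀
    obtain ⟨hn₃, hn₄⟩ := Subgroup.mem_inf.mp hn₁
    have hn₀C : n₀ ∈ centralizer ({a} : Set H) :=
      mem_centralizer_singleton_iff.mpr ((mem_centralizer_iff.mp hn₂) a haB).symm
    obtain ⟨x, hx, y, hy, he⟩ := hfac a (hBA haB) ha1 n₀ (Subgroup.mem_inf.mpr ⟨hn₃, hn₀C⟩)
    obtain ⟨hx1, -⟩ := Subgroup.mem_inf.mp hx
    obtain ⟨hy1, -⟩ := Subgroup.mem_inf.mp hy
    have hyN : y ∈ N := by
      have : y = x⁻¹ * n₀ := by rw [he]; group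
      rw [this]
      exact mul_mem (inv_mem (hXN.le hx1)) hn₁
    have hyX : y ∉ X := by
      intro h
      apply hn₀X
      rw [he]
      exact mul_mem hx1 h
    set X₁ := X ⊔ (Y ⊓ N) with hX₁
    have hnorm₁ : ∀ w ∈ Y ⊓ N, ∀ t ∈ X, w * t * w⁻¹ ∈ X := fun w hw t ht =>
      (mem_normalizer_iff.mp (Subgroup.mem_inf.mp (Subgroup.mem_inf.mp hw).2).2 t).mp ht
    have hlt₁ : X < X₁ := by
      refine lt_of_le_of_ne le_sup_left ?_
      intro h
      apply hyX
      rw [h]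
      exact mem_sup_right (Subgroup.mem_inf.mpr ⟨hy1, hyN⟩)
    have hX₁Q : X₁ ≤ Q := sup_le hXQ (inf_le_right.trans inf_le_left)
    have hmeasure : Nat.card Q - Nat.card X₁ < n := by
      have h1 := card_lt_card_of_lt hlt₁
      have h2 := card_lt_card_of_lt (lt_of_lt_of_le hlt₁ hX₁Q)
      omega
    obtain ⟨x₁, hx₁, y₁, hy₁, rfl⟩ := ih _ hmeasure Q X₁ Y rfl hQ hQc hX₁Q hYQ hAQ
      (fun a ha => conj_sup_mem (hAX a ha) (fun t ht => Subgroup.mem_inf.mpr
        ⟨hAY a ha t (Subgroup.mem_inf.mp ht).1, hANinv a ha t (Subgroup.mem_inf.mp ht).2⟩)) hAY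
      (fun a ha ha1 u hu => by
        obtain ⟨x', hx', y', hy', he'⟩ := hfac a ha ha1 u hu
        exact ⟨x', Subgroup.mem_inf.mpr ⟨mem_sup_left (Subgroup.mem_inf.mp hx').1,
          (Subgroup.mem_inf.mp hx').2⟩, y', hy', he'⟩) u hu
    -- rearrange
    obtain ⟨y₂, hy₂, x₂, hx₂, he₂⟩ := mem_sup_of_normalized hnorm₁ (inv_mem hx₁)
    have he₃ : x₁ = x₂⁻¹ * y₂⁻¹ := by
      have : x₁ = (y₂ * x₂)⁻¹ := by rw [← he₂]; group
      rw [this]; group
    refine ⟨x₂⁻¹, inv_mem hx₂, y₂⁻¹ * y₁, mul_mem (inv_mem (Subgroup.mem_inf.mp hy₂).1) hy₁, ?_⟩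
    rw [he₃]; group

/-- The local counting at one prime. -/
theorem factor_factorization {A K X Y : Subgroup H} (hA : IsElementaryAbelian p A)
    (hA2 : p ^ 2 ≤ Nat.card A) (hK : ¬ p ∣ Nat.card K)
    (hAK : ∀ a ∈ A, ∀ x ∈ K, a * x * a⁻¹ ∈ K) (hX : X ≤ K) (hY : Y ≤ K)
    (hAX : ∀ a ∈ A, ∀ x ∈ X, a * x * a⁻¹ ∈ X) (hAY : ∀ a ∈ A, ∀ x ∈ Y, a * x * a⁻¹ ∈ Y)
    (hCX : K ⊓ centralizer (A : Set H) ≤ normalizer (X : Set H))
    (hfac : ∀ a ∈ A, a ≠ 1 → ((K ⊓ centralizer {a} : Subgroup H) : Set H) =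
      ((X ⊓ centralizer {a} : Subgroup H) : Set H) * ((Y ⊓ centralizer {a} : Subgroup H) : Set H))
    (q : ℕ) [Fact q.Prime] :
    (Nat.card K).factorization q + (Nat.card (X ⊓ Y : Subgroup H)).factorization q =
      (Nat.card X).factorization q + (Nat.card Y).factorization q := by
  have hAp : IsPGroup p A := by
    rintro ⟨b, hb⟩
    refine ⟨1, Subtype.ext ?_⟩
    have := hA.2 b hb
    simpa using this
  have hAsolv : Group.IsSolvable A := Group.isSolvable_of_comm (fun x y => hA.1.1.1 x y)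
  have hcopU : ∀ U : Subgroup H, U ≤ K → (Nat.card A).Coprime (Nat.card U) := fun U hU =>
    card_coprime_of_pgroup hAp (fun hd => hK (hd.trans (Subgroup.card_dvd_of_le hU)))
  have hAXY : ∀ a ∈ A, ∀ x ∈ X ⊓ Y, a * x * a⁻¹ ∈ X ⊓ Y := fun a ha x hx =>
    Subgroup.mem_inf.mpr ⟨hAX a ha x (Subgroup.mem_inf.mp hx).1, hAY a ha x (Subgroup.mem_inf.mp hx).2⟩
  obtain ⟨D, hD, hDinv⟩ := exists_invariant_sylow hAXY (hcopU _ (inf_le_left.trans hX)) (Or.inl hAsolv) q
  obtain ⟨Yq, hYq, hYqinv, hDYq⟩ := exists_invariant_sylow_ge (A := A) (Y := Y) (Q₀ := D) hAY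
    (fun U hU => hcopU U (hU.trans hY)) hAsolv hD.isPGroup (hD.le.trans inf_le_right) hDinv
  obtain ⟨Kq, hKq, hKqinv, hYqKq⟩ := exists_invariant_sylow_ge (A := A) (Y := K) (Q₀ := Yq) hAK
    hcopU hAsolv hYq.isPGroup (hYq.le.trans hY) hYqinv
  obtain ⟨X₀, hX₀, hX₀inv⟩ := exists_invariant_sylow hAX (hcopU _ hX) (Or.inl hAsolv) q
  obtain ⟨K₀, hK₀, hK₀inv, hX₀K₀⟩ := exists_invariant_sylow_ge (A := A) (Y := K) (Q₀ := X₀) hAK
    hcopU hAsolv hX₀.isPGroup (hX₀.le.trans hX) hX₀inv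
  obtain ⟨c, hc, hce⟩ := exists_conj_invariant_sylow hAK (hcopU K le_rfl) hAsolv hK₀ hKq hK₀inv hKqinv
  obtain ⟨hc1, hc2⟩ := Subgroup.mem_inf.mp hc
  have hcX : X.map (MulAut.conj c).toMonoidHom = X := mem_normalizer_iff_conj.mp (hCX hc)
  set Xq := X₀.map (MulAut.conj c).toMonoidHom with hXq
  have hXqS : IsSylowIn q Xq X := by
    have := hX₀.conj c
    rwa [hcX] at this
  have hcomm_ca : ∀ a ∈ A, a * c = c * a := fun a ha => (mem_centralizer_iff.mp hc2) a ha
  have hXqinv : ∀ a ∈ A, ∀ x ∈ Xq, a * x * a⁻¹ ∈ Xq := by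
    rintro a ha _ ⟨x, hx, rfl⟩
    refine ⟨a * x * a⁻¹, hX₀inv a ha x hx, ?_⟩
    change c * (a * x * a⁻¹) * c⁻¹ = a * (c * x * c⁻¹) * a⁻¹
    have h1 := hcomm_ca a ha
    calc c * (a * x * a⁻¹) * c⁻¹ = (c * a) * x * (c * a)⁻¹ := by group
      _ = (a * c) * x * (a * c)⁻¹ := by rw [h1]
      _ = _ := by group
  have hXqKq : Xq ≤ Kq := by
    rw [← hce]
    exact Subgroup.map_mono hX₀K₀
  have hDXq : D ≤ Xq := by
    have h1 := hXqS.eq_of_le (hKq.isPGroup.to_le (inf_le_left : Kq ⊓ X ≤ Kq)) inf_le_right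
      (le_inf hXqKq hXqS.le)
    rw [h1]
    exact le_inf (hDYq.trans hYqKq) (hD.le.trans inf_le_left)
  have hXYq : Xq ⊓ Yq = D := by
    refine (hD.eq_of_le (hXqS.isPGroup.to_le inf_le_left) ?_ (le_inf hDXq hDYq)).symm
    exact inf_le_inf hXqS.le hYq.le
  -- local factorization
  have hlocal : ∀ a ∈ A, a ≠ 1 → ∀ u ∈ Kq ⊓ centralizer ({a} : Set H),
      ∃ x ∈ Xq ⊓ centralizer ({a} : Set H), ∃ y ∈ Yq ⊓ centralizer ({a} : Set H), u = x * y := by
    intro a ha ha1
    have hap : a ^ p = 1 := hA.2 a ha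
    have hXp : ¬ p ∣ Nat.card X := fun hd => hK (hd.trans (Subgroup.card_dvd_of_le hX))
    have hYp : ¬ p ∣ Nat.card Y := fun hd => hK (hd.trans (Subgroup.card_dvd_of_le hY))
    have hSa := sylow_inf_centralizer (p := p) hKq hap hK (normalizer_of_invariant hAK ha)
      (normalizer_of_invariant hKqinv ha)
    have hPX := sylow_inf_centralizer (p := p) hXqS hap hXp (normalizer_of_invariant hAX ha)
      (normalizer_of_invariant hXqinv ha)
    have hPY := sylow_inf_centralizer (p := p) hYq hap hYp (normalizer_of_invariant hAY ha)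
      (normalizer_of_invariant hYqinv ha)
    set GA := K ⊓ centralizer ({a} : Set H) with hGA
    set XA := X ⊓ centralizer ({a} : Set H) with hXA
    set YA := Y ⊓ centralizer ({a} : Set H) with hYA
    set PX := Xq ⊓ centralizer ({a} : Set H) with hPXd
    set PY := Yq ⊓ centralizer ({a} : Set H) with hPYd
    set SA := Kq ⊓ centralizer ({a} : Set H) with hSAd
    have hcard1 : Nat.card GA * Nat.card (XA ⊓ YA : Subgroup H) = Nat.card XA * Nat.card YA := by
      have h := card_mul_set_mul_card_inf XA YA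
      rw [← hfac a ha ha1] at h
      exact h
    have hcard2 := card_mul_set_mul_card_inf PX PY
    -- choose a Sylow of `XA ⊓ YA` containing `PX ⊓ PY`
    have hPPq : IsPGroup q (PX ⊓ PY : Subgroup H) := hPX.isPGroup.to_le inf_le_left
    obtain ⟨T, hPPT, hT⟩ := exists_isSylowIn_of_le (L := XA ⊓ YA) hPPq (inf_le_inf hPX.le hPY.le)
    have hcardT : Nat.card (PX ⊓ PY : Subgroup H) ≤ Nat.card T := Subgroup.card_le_of_le hPPT
    -- all orders are powers of `q`
    have hpow : ∀ {S L : Subgroup H}, IsSylowIn q S L →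
        Nat.card S = q ^ (Nat.card L).factorization q := by
      intro S L hS
      obtain ⟨k, hk⟩ := IsPGroup.iff_card.mp hS.isPGroup
      rw [isSylowIn_factorization hS, hk, (Fact.out : q.Prime).factorization_pow]
      simp
    have hv : (Nat.card GA).factorization q + (Nat.card (XA ⊓ YA : Subgroup H)).factorization q =
        (Nat.card XA).factorization q + (Nat.card YA).factorization q := by
      have h : (Nat.card GA * Nat.card (XA ⊓ YA : Subgroup H)).factorization q =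
          (Nat.card XA * Nat.card YA).factorization q := by rw [hcard1]
      rw [Nat.factorization_mul Nat.card_pos.ne' Nat.card_pos.ne',
        Nat.factorization_mul Nat.card_pos.ne' Nat.card_pos.ne'] at h
      exact h
    have hprod : Nat.card SA * Nat.card T = Nat.card PX * Nat.card PY := by
      rw [hpow hSa, hpow hT, hpow hPX, hpow hPY, ← pow_add, ← pow_add, hv]
    -- the product set fills `SA`
    set Z : Set H := (PX : Set H) * (PY : Set H) with hZ
    have hZle : Z ⊆ (SA : Set H) := by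
      rintro _ ⟨x, hx, y, hy, rfl⟩
      have hx' := Subgroup.mem_inf.mp hx
      have hy' := Subgroup.mem_inf.mp hy
      exact Subgroup.mem_inf.mpr ⟨mul_mem (hXqKq hx'.1) (hYqKq hy'.1), mul_mem hx'.2 hy'.2⟩
    have hcardZ : Nat.card SA ≤ Nat.card Z := by
      have h1 : Nat.card SA * Nat.card T = Nat.card Z * Nat.card (PX ⊓ PY : Subgroup H) := by
        rw [hprod, hcard2]
      by_contra hlt
      push Not at hlt
      have h2 : Nat.card Z * Nat.card (PX ⊓ PY : Subgroup H) < Nat.card SA * Nat.card T :=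
        Nat.mul_lt_mul_of_lt_of_le hlt hcardT Nat.card_pos
      omega
    have hZeq : Z = (SA : Set H) := by
      apply Set.eq_of_subset_of_ncard_le hZle
      · rw [← Nat.card_coe_set_eq, ← Nat.card_coe_set_eq]
        exact hcardZ
    intro u hu
    have hu' : u ∈ Z := by rw [hZeq]; exact hu
    obtain ⟨x, hx, y, hy, rfl⟩ := hu'
    exact ⟨x, hx, y, hy, rfl⟩
  have hKqp : (Nat.card Kq).Coprime p :=
    ((Nat.Prime.coprime_iff_not_dvd hp.out).mpr
      (fun hd => hK (hd.trans (Subgroup.card_dvd_of_le hKq.le)))).symm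
  have hfinal := pgroup_factor hA hA2 _ Kq Xq Yq rfl hKq.isPGroup hKqp hXqKq hYqKq hKqinv hXqinv hYqinv hlocal
  have hset : (Xq : Set H) * (Yq : Set H) = (Kq : Set H) := by
    ext u
    constructor
    · rintro ⟨x, hx, y, hy, rfl⟩
      exact mul_mem (hXqKq hx) (hYqKq hy)
    · intro hu
      obtain ⟨x, hx, y, hy, rfl⟩ := hfinal u hu
      exact Set.mul_mem_mul hx hy
  have hcount := card_mul_set_mul_card_inf Xq Yq
  rw [hset, hXYq] at hcount
  have h := congrArg (fun n : ℕ => n.factorization q) hcount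
  beta_reduce at h
  rw [Nat.factorization_mul Nat.card_pos.ne' Nat.card_pos.ne',
    Nat.factorization_mul Nat.card_pos.ne' Nat.card_pos.ne'] at h
  rw [isSylowIn_factorization hKq, isSylowIn_factorization hD, isSylowIn_factorization hXqS,
    isSylowIn_factorization hYq]
  exact h

/-- **S1287**. -/
theorem factorization_of_local {A K X Y : Subgroup H} (hA : IsElementaryAbelian p A)
    (hA2 : p ^ 2 ≤ Nat.card A) (hK : ¬ p ∣ Nat.card K)
    (hAK : ∀ a ∈ A, ∀ x ∈ K, a * x * a⁻¹ ∈ K) (hX : X ≤ K) (hY : Y ≤ K)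
    (hAX : ∀ a ∈ A, ∀ x ∈ X, a * x * a⁻¹ ∈ X) (hAY : ∀ a ∈ A, ∀ x ∈ Y, a * x * a⁻¹ ∈ Y)
    (hCX : K ⊓ centralizer (A : Set H) ≤ normalizer (X : Set H))
    (hfac : ∀ a ∈ A, a ≠ 1 → ((K ⊓ centralizer {a} : Subgroup H) : Set H) =
      ((X ⊓ centralizer {a} : Subgroup H) : Set H) * ((Y ⊓ centralizer {a} : Subgroup H) : Set H)) :
    (K : Set H) = (X : Set H) * (Y : Set H) := by
  have hcard : Nat.card K * Nat.card (X ⊓ Y : Subgroup H) = Nat.card X * Nat.card Y := by
    apply Nat.eq_of_factorization_eq (Nat.mul_ne_zero Nat.card_pos.ne' Nat.card_pos.ne')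
      (Nat.mul_ne_zero Nat.card_pos.ne' Nat.card_pos.ne')
    intro q
    rw [Nat.factorization_mul Nat.card_pos.ne' Nat.card_pos.ne',
      Nat.factorization_mul Nat.card_pos.ne' Nat.card_pos.ne']
    by_cases hq : q.Prime
    · have : Fact q.Prime := ⟨hq⟩
      exact factor_factorization hA hA2 hK hAK hX hY hAX hAY hCX hfac q
    · simp [Nat.factorization_eq_zero_of_not_prime _ hq]
  have hformula := card_mul_set_mul_card_inf X Y
  have hle : (X : Set H) * (Y : Set H) ⊆ (K : Set H) := by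
    rintro _ ⟨x, hx, y, hy, rfl⟩
    exact mul_mem (hX hx) (hY hy)
  have hcardeq : Nat.card ((X : Set H) * (Y : Set H) : Set H) = Nat.card K := by
    have h1 : Nat.card ((X : Set H) * (Y : Set H) : Set H) * Nat.card (X ⊓ Y : Subgroup H) =
        Nat.card K * Nat.card (X ⊓ Y : Subgroup H) := by rw [hformula, hcard]
    exact Nat.eq_of_mul_eq_mul_right Nat.card_pos h1
  symm
  apply Set.eq_of_subset_of_ncard_le hle
  rw [← Nat.card_coe_set_eq, ← Nat.card_coe_set_eq]
  exact hcardeq.ge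

end main

end Cfsg.Agent.Lib.FStar
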